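import Cfsg.Agent.S0200

/-! Sets of `p`-transpositions: basic lemmas. -/

set_option autoImplicit false

namespace Cfsg.Agent.PTr

variable {G : Type*} [Group G]

/-- A normal set of `p`-transpositions. -/
structure PT (p : ℕ) (D : Set G) : Prop where
  pp : p.Prime
  p5 : 5 ≤ p
  sq : ∀ d ∈ D, d * d = 1
  cj : ∀ g : G, ∀ d ∈ D, g * d * g⁻¹ ∈ D
  ord : ∀ d ∈ D, ∀ e ∈ D, Commute d e ∨ (d * e) ^ p = 1

theorem eq_of_sq {p : ℕ} (hp : Odd p) {x y : G} (hx : x ^ p = 1) (hy : y ^ p = 1)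
    (h : x * x = y * y) : x = y := by
  obtain ⟨k, rfl⟩ := hp
  have e : ∀ z : G, z ^ (2 * k + 1) = 1 → (z * z) ^ (k + 1) = z := fun z hz => by
    rw [← sq, ← pow_mul, show 2 * (k + 1) = 2 * k + 1 + 1 by ring, pow_succ, hz, one_mul]
  rw [← e x hx, ← e y hy, h]

theorem one_of_sq {p : ℕ} (hp : Odd p) {x : G} (hx : x ^ p = 1) (h : x * x = 1) : x = 1 :=
  eq_of_sq hp hx (one_pow _) (by simpa using h)

theorem comm_of_sq {a b : G} (ha : a * a = 1) (hb : b * b = 1) (h : a * b * (a * b) = 1) :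
    Commute a b := by
  have : a * b = a * (a * b * (a * b)) * b := by rw [h, mul_one]
  show a * b = b * a
  rw [this]
  calc a * (a * b * (a * b)) * b = (a * a) * b * a * (b * b) := by group
    _ = b * a := by rw [ha, hb]; group

theorem sq_of_comm {a b : G} (ha : a * a = 1) (hb : b * b = 1) (h : Commute a b) :
    a * b * (a * b) = 1 := by
  calc a * b * (a * b) = a * (b * a) * b := by group
    _ = (a * a) * (b * b) := by rw [← h.eq]; group
    _ = 1 := by rw [ha, hb, one_mul]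

theorem comm_cj (g : G) {a b : G} : Commute (g * a * g⁻¹) (g * b * g⁻¹) ↔ Commute a b := by
  constructor
  · intro h
    have := h.eq
    show a * b = b * a
    calc a * b = g⁻¹ * (g * a * g⁻¹ * (g * b * g⁻¹)) * g := by group
      _ = b * a := by rw [this]; group
  · intro h
    show _ = _
    calc g * a * g⁻¹ * (g * b * g⁻¹) = g * (a * b) * g⁻¹ := by group
      _ = _ := by rw [h.eq]; group

namespace PT
variable {p : ℕ} {D : Set G} (H : PT p D)
include H

theorem odd : Odd p := H.pp.odd_of_ne_two (by have := H.p5; omega)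

theorem inv {d : G} (hd : d ∈ D) : d⁻¹ = d := inv_eq_of_mul_eq_one_right (H.sq d hd)

theorem cj' {c d : G} (hc : c ∈ D) (hd : d ∈ D) : c * d * c ∈ D := by
  have := H.cj c d hd
  rwa [H.inv hc] at this

theorem pw {d e : G} (hd : d ∈ D) (he : e ∈ D) (h : ¬ Commute d e) : (d * e) ^ p = 1 :=
  (H.ord d hd e he).resolve_left h

theorem comm_iff {c u : G} (hc : c ∈ D) : c * u * c = u ↔ Commute c u := by
  constructor
  · intro h
    show c * u = u * c
    calc c * u = c * u * (c * c) := by rw [H.sq c hc, mul_one]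
      _ = (c * u * c) * c := by group
      _ = u * c := by rw [h]
  · intro h
    rw [h.eq, mul_assoc, H.sq c hc, mul_one]

/-- Uniqueness of midpoints. -/
theorem uniq {u c c' : G} (hu : u ∈ D) (hc : c ∈ D) (hc' : c' ∈ D) (hn : ¬ Commute c u)
    (h : c * u * c = c' * u * c') : c = c' := by
  have hn' : ¬ Commute c' u := fun h' => hn ((H.comm_iff hc).1 (h.trans ((H.comm_iff hc').2 h')))
  have := eq_of_sq H.odd (H.pw hu hc fun h => hn h.symm) (H.pw hu hc' fun h => hn' h.symm)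
    (by calc u * c * (u * c) = u * (c * u * c) := by group
          _ = u * c' * (u * c') := by rw [h]; group)
  exact mul_left_cancel this

theorem rot {y x : G} (hy : y ∈ D) (hx : x ∈ D) (i : ℤ) :
    y * (y * x) ^ i * y = (y * x) ^ (-i) := by
  have : y * (y * x) * y⁻¹ = (y * x)⁻¹ := by
    rw [mul_inv_rev, H.inv hy, H.inv hx, ← mul_assoc, H.sq y hy, one_mul]
  have h2 : y * (y * x) ^ i * y⁻¹ = (y * (y * x) * y⁻¹) ^ i := (conj_zpow).symm
  rw [this, H.inv hy] at h2
  rw [h2, inv_zpow']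

theorem line {y x : G} (hy : y ∈ D) (hx : x ∈ D) (hn : ¬ Commute y x) (i : ℤ) :
    y * (y * x) ^ i ∈ D := by
  obtain ⟨k, hk⟩ := H.odd
  have hp : (y * x) ^ (p : ℤ) = 1 := by rw [zpow_natCast]; exact H.pw hy hx hn
  have := H.cj ((y * x) ^ (-(i * (k + 1)))) y hy
  convert this using 1
  have e := H.rot hy hx (i * (k + 1))
  rw [← zpow_neg, neg_neg, ← e]
  calc y * (y * x) ^ i = y * ((y * x) ^ i * ((y * x) ^ (p : ℤ)) ^ i) := by rw [hp]; simp
    _ = y * ((y * x) ^ (i * (k + 1)) * (y * x) ^ (i * (k + 1))) := by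
        rw [← zpow_mul, ← zpow_add, ← zpow_add]; congr 2; rw [hk]; push_cast; ring
    _ = y * (y * x) ^ (i * (k + 1)) * (y * y) * (y * x) ^ (i * (k + 1)) := by
        rw [H.sq y hy]; group
    _ = _ := by group

/-- Existence of midpoints. -/
theorem mid {u v : G} (hu : u ∈ D) (hv : v ∈ D) (hn : ¬ Commute u v) :
    ∃ c ∈ D, c * u * c = v := by
  obtain ⟨k, hk⟩ := H.odd
  refine ⟨u * (u * v) ^ ((k : ℤ) + 1), H.line hu hv hn _, ?_⟩
  have hp : (u * v) ^ (p : ℤ) = 1 := by rw [zpow_natCast]; exact H.pw hu hv hn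
  calc u * (u * v) ^ ((k : ℤ) + 1) * u * (u * (u * v) ^ ((k : ℤ) + 1))
      = u * (u * v) ^ ((k : ℤ) + 1) * (u * u) * (u * v) ^ ((k : ℤ) + 1) := by group
    _ = u * ((u * v) ^ (p : ℤ) * (u * v)) := by
        rw [H.sq u hu, mul_one, mul_assoc, ← zpow_add, ← zpow_add_one]; congr 2
        rw [hk]; push_cast; ring
    _ = v := by rw [hp, one_mul, ← mul_assoc, H.sq u hu, one_mul]

theorem nc_cj {c u : G} (hc : c ∈ D) (hu : u ∈ D) (hn : ¬ Commute c u) :
    ¬ Commute u (c * u * c) := by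
  intro h
  have h1 := sq_of_comm (H.sq u hu) (H.sq _ (H.cj' hc hu)) h
  have hp := H.pw hu hc fun h => hn h.symm
  have h2 : u * c * (u * c) = 1 := one_of_sq H.odd (by rw [← pow_two, ← pow_mul, mul_comm, pow_mul, hp, one_pow])
    (by rw [← h1]; group)
  exact hn (comm_of_sq (H.sq u hu) (H.sq c hc) h2).symm

/-- A product of two non-commuting members centralises no member. -/
theorem free {d e u : G} (hd : d ∈ D) (he : e ∈ D) (hu : u ∈ D) (h : Commute (d * e) u) :
    d = e ∨ (Commute d u ∧ Commute e u) := by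
  have h1 : d * u * d = e * u * e := by
    have := h.eq
    calc d * u * d = d * u * d * (e * e) := by rw [H.sq e he, mul_one]
      _ = d * (u * (d * e)) * e := by group
      _ = (d * d) * e * u * e := by rw [← this]; group
      _ = e * u * e := by rw [H.sq d hd, one_mul]
  by_cases hc : Commute d u
  · exact Or.inr ⟨hc, (H.comm_iff he).1 (h1.symm.trans ((H.comm_iff hd).2 hc))⟩
  · exact Or.inl (H.uniq hu hd he hc h1)

theorem comm_of_pow {h w : G} (hp : h ^ p = 1) {i : ℤ} (hi : ¬ (p : ℤ) ∣ i)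
    (hw : Commute w (h ^ i)) : Commute w h := by
  have hc : IsCoprime (p : ℤ) i :=
    (Int.prime_iff_natAbs_prime.2 (by simpa using H.pp)).coprime_iff_not_dvd.2 hi
  obtain ⟨a, b, hab⟩ := hc
  have : h = (h ^ i) ^ b := by
    conv_lhs => rw [← zpow_one h, ← hab, zpow_add, mul_comm a, zpow_mul, zpow_natCast, hp, one_zpow,
      one_mul, mul_comm b, zpow_mul]
  rw [this]
  exact hw.zpow_right b

/-- If commuting is transitive on `D` and `τ = a a'` sends every member to a commuting one, then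
`τ` lies in a normal 2-subgroup. -/
theorem tau [Finite G] (heq : ∀ u ∈ D, ∀ v ∈ D, ∀ w ∈ D, Commute u v → Commute u w → Commute v w)
    {a a' : G} (ha : a ∈ D) (ha' : a' ∈ D) (hc : Commute a a') (hne : a ≠ a')
    (h : ∀ y ∈ D, Commute y (a * a' * y * (a * a')⁻¹)) :
    ∃ N : Subgroup G, N.Normal ∧ IsPGroup 2 N ∧ N ≠ ⊥ := by
  have ht : a * a' * (a * a') = 1 := sq_of_comm (H.sq a ha) (H.sq a' ha') hc
  have ht1 : a * a' ≠ 1 := fun h => hne (by
    rw [← H.inv ha']; exact eq_inv_of_mul_eq_one_left h)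
  have ho : orderOf (a * a') = 2 := orderOf_eq_prime (by rw [pow_two, ht]) ht1
  by_contra hcon
  obtain ⟨x, hx1, hxo, hx⟩ := S0200.result (a * a') ho fun N hN h2 hm =>
    hcon ⟨N, hN, h2, fun hb => ht1 (by simpa [hb] using hm)⟩
  set t := a * a' with htd
  have hti : t⁻¹ = t := inv_eq_of_mul_eq_one_right ht
  set b := x * a * x⁻¹
  set b' := x * a' * x⁻¹
  have hb : b ∈ D := H.cj x a ha
  have hb' : b' ∈ D := H.cj x a' ha'
  have hbb : Commute b b' := (comm_cj x).2 hc
  have c1 := h b hb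
  have c2 := h b' hb'
  have m1 := H.cj t b hb
  have m2 := H.cj t b' hb'
  have c3 : Commute b' (t * b * t⁻¹) := heq b hb _ hb' _ m1 hbb c1
  have c4 : Commute b (t * b' * t⁻¹) := heq b' hb' _ hb _ m2 hbb.symm c2
  have c5 : Commute (t * b * t⁻¹) (t * b' * t⁻¹) := (comm_cj t).2 hbb
  have s1 := sq_of_comm (H.sq _ hb) (H.sq _ hb') hbb
  have s2 := sq_of_comm (H.sq _ m1) (H.sq _ m2) c5
  have s3 := sq_of_comm s1 s2 (Commute.mul_left (c1.mul_right c4) (c3.mul_right c2))
  have e1 : b * b' * (t * b * t⁻¹ * (t * b' * t⁻¹)) = x ^ 4 := by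
    have e2 : b * b' = x * t * x⁻¹ := by simp only [b, b', htd]; group
    have e3 : t * x⁻¹ * t⁻¹ = x := by
      rw [show t * x⁻¹ * t⁻¹ = (t * x * t⁻¹)⁻¹ by group, hx, inv_inv]
    calc b * b' * (t * b * t⁻¹ * (t * b' * t⁻¹)) = b * b' * t * (b * b') * t⁻¹ := by group
      _ = x * (t * x⁻¹ * t) * x * (t * x⁻¹ * t⁻¹) := by rw [e2]; group
      _ = x ^ 4 := by rw [e3]; nth_rewrite 2 [← hti]; rw [e3]; simp [pow_succ]
  rw [e1, ← pow_add] at s3
  have h8 : orderOf x ∣ 2 ^ 3 := orderOf_dvd_of_pow_eq_one s3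
  have : orderOf x = 1 := Nat.Coprime.eq_one_of_dvd
    (Nat.Coprime.pow_right 3 (Nat.coprime_two_right.2 hxo)) h8
  exact hx1 (orderOf_eq_one_iff.1 this)

end PT

end Cfsg.Agent.PTr
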