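import Cfsg.Agent.PTr.A

/-! No path `y - x - w - z` when `p ≥ 5` and the "order four" property holds. -/

set_option autoImplicit false

namespace Cfsg.Agent.PTr

variable {G : Type*} [Group G]

/-- The "order four" property. -/
def Four (D : Set G) : Prop :=
  ∀ a ∈ D, ∀ b ∈ D, ∀ y ∈ D, Commute a b → ¬ Commute a y → ¬ Commute b y →
    Commute (a * y * a) (b * y * b)

theorem word (Y T : ℤ → G) (hY : ∀ j, Y j * Y j = 1)
    (hYT : ∀ i j, Y j * T i * Y j = T (2 * j - i)) (hYY : ∀ i j, Y j * Y i * Y j = Y (2 * j - i))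
    (hT : ∀ i j, Commute (T i) (T j)) (i j : ℤ) :
    Y j * T j * (Y i * T i) * (Y j * T j) =
      Y (2 * j - i) * T (2 * j - i) * (T (3 * j - 2 * i) * T j) := by
  have e : ∀ i j, T i * Y j = Y j * T (2 * j - i) := fun i j => by
    rw [← hYT, ← mul_assoc, ← mul_assoc, hY, one_mul]
  calc Y j * T j * (Y i * T i) * (Y j * T j) = Y j * (T j * Y i) * (T i * Y j) * T j := by group
    _ = Y j * Y i * (T (2 * i - j) * Y j) * T (2 * j - i) * T j := by rw [e, e]; group
    _ = (Y j * Y i * Y j) * (T (3 * j - 2 * i) * T (2 * j - i)) * T j := by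
        rw [e, show 2 * j - (2 * i - j) = 3 * j - 2 * i by ring]; group
    _ = _ := by rw [hYY, (hT _ _).eq]; group

theorem PT.path {p : ℕ} {D : Set G} (H : PT p D) (h4 : Four D) {x y w z : G} (hx : x ∈ D)
    (hy : y ∈ D) (hw : w ∈ D) (hz : z ∈ D) (nyx : ¬ Commute y x) (nxw : ¬ Commute x w)
    (nzw : ¬ Commute z w) (cyw : Commute y w) (cyz : Commute y z) (cxz : Commute x z) : False := by
  set h := y * x with hh
  have hp : h ^ p = 1 := H.pw hy hx nyx
  have hxe : x = y * h := by rw [hh, ← mul_assoc, H.sq y hy, one_mul]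
  have rot : ∀ i : ℤ, y * h ^ i * y = h ^ (-i) := H.rot hy hx
  have yy := H.sq y hy
  have rot' : ∀ i : ℤ, y * h ^ i = h ^ (-i) * y := fun i => by
    rw [← rot, mul_assoc _ y y, yy, mul_one]
  have hX : ∀ i : ℤ, y * h ^ i ∈ D := H.line hy hx nyx
  have nw : ∀ i : ℤ, ¬ (p : ℤ) ∣ i → ¬ Commute (y * h ^ i) w := fun i hi hc => by
    have h1 : Commute w (h ^ i) := by
      have := cyw.symm.mul_right hc.symm
      rwa [← mul_assoc, yy, one_mul] at this
    exact nxw (by rw [hxe]; exact (cyw.symm.mul_right (H.comm_of_pow hp hi h1)).symm)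
  have ny : ∀ i : ℤ, ¬ (p : ℤ) ∣ i → ¬ Commute y (y * h ^ i) := fun i hi hc => by
    have h1 : Commute y (h ^ i) := by
      have := (Commute.refl y).mul_right hc
      rwa [← mul_assoc, yy, one_mul] at this
    exact nyx (by rw [hxe]; exact (Commute.refl y).mul_right (H.comm_of_pow hp hi h1))
  have cz : ∀ i : ℤ, Commute (y * h ^ i) z := fun i =>
    cyz.mul_left ((cyz.mul_left cxz).zpow_left i)
  have cjX : ∀ (i : ℤ) (u : G), Commute y u →
      y * h ^ i * u * (y * h ^ i) = h ^ (-i) * u * h ^ i := fun i u hu => by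
    rw [rot' i]
    nth_rewrite 2 [← rot' i]
    calc h ^ (-i) * y * u * (y * h ^ i) = h ^ (-i) * (y * u) * y * h ^ i := by group
      _ = h ^ (-i) * u * (y * y) * h ^ i := by rw [hu.eq]; group
      _ = _ := by rw [yy, mul_one]
  set τ := y * w with hτ
  have tt : τ * τ = 1 := sq_of_comm yy (H.sq w hw) cyw
  have cyt : Commute y τ := (Commute.refl y).mul_right cyw
  let Y : ℤ → G := fun i => h ^ (-i) * y * h ^ i
  let T : ℤ → G := fun i => h ^ (-i) * τ * h ^ i
  have YT : ∀ i, Y i * T i = h ^ (-i) * w * h ^ i := fun i => by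
    calc Y i * T i = h ^ (-i) * (y * y) * w * h ^ i := by simp only [Y, T, hτ]; group
      _ = _ := by rw [yy, mul_one]
  have T0 : ∀ i, Commute τ (T i) := fun i => by
    by_cases hi : (p : ℤ) ∣ i
    · obtain ⟨k, rfl⟩ := hi
      have : h ^ ((p : ℤ) * k) = 1 := by rw [zpow_mul, zpow_natCast, hp, one_zpow]
      simp only [T, zpow_neg, this]; simp
    · have h1 := (h4 y hy w hw _ (hX i) cyw (ny i hi) fun hc => nw i hi hc.symm).eq
      have h2 := cjX i τ cyt
      set c := y * h ^ i
      show τ * T i = T i * τ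
      simp only [T]
      rw [← h2]
      calc τ * (c * τ * c) = y * (w * c * (y * w) * c) := by rw [hτ]; group
        _ = y * (w * c * w * (y * c * y)) * y := by
            rw [cyw.eq, mul_assoc _ (w * c * w * (y * c * y)) y, mul_assoc _ (y * c * y) y,
              mul_assoc (y * c) y y, yy]; group
        _ = (y * y) * c * (y * w) * c * (w * y) := by rw [← h1]; group
        _ = c * τ * c * τ := by rw [yy, ← cyw.eq, one_mul]
  have hT : ∀ i j, Commute (T i) (T j) := fun i j => by
    have := (comm_cj (h ^ (-i))).2 (T0 (j - i))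
    convert this using 1
    · simp [T]
    · simp only [T]; group
  have hTT : ∀ i, T i * T i = 1 := fun i => by
    calc T i * T i = h ^ (-i) * (τ * τ) * h ^ i := by simp only [T]; group
      _ = 1 := by rw [tt]; group
  have cjY : ∀ (i j : ℤ) (u : G), Commute y u →
      Y j * (h ^ (-i) * u * h ^ i) * Y j = h ^ (-(2 * j - i)) * u * h ^ (2 * j - i) :=
    fun i j u hu => by
    calc Y j * (h ^ (-i) * u * h ^ i) * Y j
        = h ^ (-j) * (y * h ^ (j - i)) * u * (h ^ (-(j - i)) * y) * h ^ j := by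
          simp only [Y]; group
      _ = h ^ (-j) * (y * h ^ (j - i) * u * (y * h ^ (j - i))) * h ^ j := by
          rw [← rot' (j - i)]; group
      _ = _ := by rw [cjX _ _ hu]; group
  have W := word Y T (fun j => by
      calc Y j * Y j = h ^ (-j) * (y * y) * h ^ j := by simp only [Y]; group
        _ = 1 := by rw [yy]; group)
    (fun i j => cjY i j τ cyt) (fun i j => cjY i j y (Commute.refl y)) hT
  set v := z * w * z
  have cv : ∀ i : ℤ, ¬ (p : ℤ) ∣ i → Commute v (Y i * T i) := fun i hi => by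
    have := h4 _ (hX i) z hz w hw (cz i) (nw i hi) nzw
    rw [cjX i w cyw] at this
    rw [YT]; exact this.symm
  have nd : ∀ i : ℤ, i ≠ 0 → -5 < i → i < 5 → Commute v (Y i * T i) := fun i h0 h1 h2 =>
    cv i fun hd => by
      have h5 : (5 : ℤ) ≤ p := by exact_mod_cast H.p5
      have := Int.le_of_dvd (abs_pos.2 h0) ((dvd_abs _ _).2 hd)
      have := abs_lt.2 ⟨h1, h2⟩
      omega
  have key : ∀ i j : ℤ, Commute v (Y i * T i) → Commute v (Y j * T j) →
      Commute v (Y (2 * j - i) * T (2 * j - i) * (T (3 * j - 2 * i) * T j)) := fun i j a b => by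
    rw [← W]; exact (b.mul_right a).mul_right b
  have k1 := key 3 2 (nd _ (by norm_num) (by norm_num) (by norm_num))
    (nd _ (by norm_num) (by norm_num) (by norm_num))
  have k2 := key (-3) (-2) (nd _ (by norm_num) (by norm_num) (by norm_num))
    (nd _ (by norm_num) (by norm_num) (by norm_num))
  have k3 := key 4 2 (nd _ (by norm_num) (by norm_num) (by norm_num))
    (nd _ (by norm_num) (by norm_num) (by norm_num))
  norm_num at k1 k2 k3
  have a1 := (nd 1 (by norm_num) (by norm_num) (by norm_num)).inv_right.mul_right k1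
  have a2 := (nd (-1) (by norm_num) (by norm_num) (by norm_num)).inv_right.mul_right k2
  rw [inv_mul_cancel_left] at a1 a2
  have a3 := a2.mul_right a1
  have e3 : T 0 * T (-2) * (T 0 * T 2) = T (-2) * T 2 := by
    rw [(hT 0 (-2)).eq, mul_assoc, ← mul_assoc (T 0), hTT, one_mul]
  rw [e3] at a3
  have a4 := k3.mul_right a3.inv_right
  rw [mul_inv_cancel_right, YT] at a4
  simp only [neg_zero, zpow_zero, one_mul, mul_one] at a4
  exact H.nc_cj hz hw nzw a4.symm

end Cfsg.Agent.PTr
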