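import Cfsg.Agent.PTr.A

/-! The rank one configuration: classes of commuting `p`-transpositions. -/

set_option autoImplicit false

namespace Cfsg.Agent.PTr

open MulAction

variable {G : Type*} [Group G]

structure R1 (p : ℕ) (D : Set G) : Prop extends PT p D where
  one : (1 : G) ∉ D
  cls : ∀ d ∈ D, ∀ e ∈ D, ∃ g : G, g * d * g⁻¹ = e
  eqv : ∀ u ∈ D, ∀ v ∈ D, ∀ w ∈ D, Commute u v → Commute u w → Commute v w
  clo : ∀ a ∈ D, ∀ b ∈ D, Commute a b → a ≠ b → a * b ∈ D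
  cen : ∀ a ∈ D, ∀ b ∈ D, ∀ y ∈ D, a ≠ b → Commute a b → ¬ Commute a y →
    ∀ g : G, Commute g a → Commute g b → Commute g y → g = 1
  ex : ∃ a ∈ D, ∃ b ∈ D, ∃ y ∈ D, a ≠ b ∧ Commute a b ∧ ¬ Commute a y

namespace R1
variable {p : ℕ} {D : Set G} (H : R1 p D)

def st : Setoid D :=
  ⟨fun u v => Commute u.1 v.1, fun _ => Commute.refl _, fun h => h.symm,
    fun {u v w} h h' => H.eqv v v.2 u u.2 w w.2 h.symm h'⟩

def Om : Type _ := Quotient H.st

def mk' (u : G) (hu : u ∈ D) : H.Om := Quotient.mk H.st ⟨u, hu⟩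

instance : MulAction G H.Om where
  smul g := Quotient.map (fun u => ⟨g * u.1 * g⁻¹, H.cj g u u.2⟩) fun _ _ h => (comm_cj g).2 h
  one_smul B := by
    induction B using Quotient.inductionOn
    exact congrArg (Quotient.mk H.st) (Subtype.ext (by simp))
  mul_smul g g' B := by
    induction B using Quotient.inductionOn
    exact congrArg (Quotient.mk H.st) (Subtype.ext (by simp [mul_assoc]))

instance [Finite G] : Finite H.Om := Quotient.finite _

theorem smul_mk (g u : G) (hu : u ∈ D) : g • H.mk' u hu = H.mk' (g * u * g⁻¹) (H.cj g u hu) := rfl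

theorem mk_eq {u v : G} {hu : u ∈ D} {hv : v ∈ D} : H.mk' u hu = H.mk' v hv ↔ Commute u v :=
  Quotient.eq (r := H.st)

theorem ind (B : H.Om) : ∃ u hu, H.mk' u hu = B := by
  induction B using Quotient.inductionOn with | _ u => exact ⟨u.1, u.2, rfl⟩

theorem fix_iff {d : G} (hd : d ∈ D) (B : H.Om) : d • B = B ↔ H.mk' d hd = B := by
  obtain ⟨u, hu, rfl⟩ := H.ind B
  rw [smul_mk, mk_eq, mk_eq, H.inv hd]
  constructor
  · intro h
    by_contra hn
    exact H.nc_cj hd hu hn h.symm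
  · intro h
    rw [(H.comm_iff hd).2 h]

theorem swap {d : G} (hd : d ∈ D) (B : H.Om) : d • d • B = B := by
  rw [← mul_smul, H.sq d hd, one_smul]

theorem nc {d e : G} (hd : d ∈ D) (he : e ∈ D) {B : H.Om} (h : d • B = e • B) (hB : d • B ≠ B)
    (hne : d ≠ e) : ¬ Commute d e := fun hc => by
  have hm := H.clo d hd e he hc hne
  have h1 : (d * e) • B = B := by rw [mul_smul, ← h, H.swap hd]
  rw [H.fix_iff hm] at h1
  exact hB ((H.fix_iff hd B).2 ((H.mk_eq.2 ((Commute.refl d).mul_right hc)).trans h1))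

theorem pw' {d e : G} (hd : d ∈ D) (he : e ∈ D) {B : H.Om} (h : d • B = e • B) (hB : d • B ≠ B) :
    (d * e) ^ p = 1 := by
  by_cases hne : d = e
  · rw [← hne, H.sq d hd, one_pow]
  · exact H.pw hd he (H.nc hd he h hB hne)

include H in
theorem mate {v : G} (hv : v ∈ D) : ∃ v' ∈ D, v ≠ v' ∧ Commute v v' := by
  obtain ⟨a, ha, b, hb, y, -, hab, hc, -⟩ := H.ex
  obtain ⟨g, rfl⟩ := H.cls a ha v hv
  exact ⟨_, H.cj g b hb, fun h => hab (by simpa using h), (comm_cj g).2 hc⟩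

theorem exists_ne (B : H.Om) : ∃ B', B ≠ B' := by
  obtain ⟨a, ha, b, -, y, hy, -, -, hn⟩ := H.ex
  by_contra hcon
  push Not at hcon
  exact hn (H.mk_eq.1 ((hcon (H.mk' a ha)).symm.trans (hcon (H.mk' y hy))))

theorem two {B B' : H.Om} (hB : B ≠ B') :
    ∃ d ∈ D, ∃ e ∈ D, d • B = B' ∧ e • B = B' ∧ ¬ Commute d e := by
  obtain ⟨u, hu, rfl⟩ := H.ind B
  obtain ⟨v, hv, rfl⟩ := H.ind B'
  obtain ⟨v', hv', hne, hc⟩ := H.mate hv
  have n1 : ¬ Commute u v := fun h => hB (H.mk_eq.2 h)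
  have n2 : ¬ Commute u v' := fun h => n1 (H.eqv v' hv' u hu v hv h.symm hc.symm)
  obtain ⟨d, hd, e1⟩ := H.mid hu hv n1
  obtain ⟨e, he, e2⟩ := H.mid hu hv' n2
  have f1 : d • H.mk' u hu = H.mk' v hv := by
    rw [smul_mk, mk_eq, H.inv hd, e1]
  have f2 : e • H.mk' u hu = H.mk' v hv := by
    rw [smul_mk, mk_eq, H.inv he, e2]; exact hc.symm
  exact ⟨d, hd, e, he, f1, f2, H.nc hd he (f1.trans f2.symm) (f1 ▸ hB.symm)
    fun h => hne (by rw [← e1, ← e2, h])⟩

include H in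
theorem free' {d e u : G} (hd : d ∈ D) (he : e ∈ D) (hu : u ∈ D) (hn : ¬ Commute d e) :
    ¬ Commute (d * e) u := fun h => by
  rcases H.free hd he hu h with rfl | ⟨h1, h2⟩
  · exact hn (Commute.refl _)
  · exact hn (H.eqv u hu d hd e he h1.symm h2.symm)

theorem big (B : H.Om) (z e1 e2 : G) :
    ∃ a, ∃ ha : a ∈ D, H.mk' a ha = B ∧ a ≠ z ∧ a ≠ e1 ∧ a ≠ e2 := by
  classical
  obtain ⟨B', hB⟩ := H.exists_ne B
  obtain ⟨d, hd, e, he, f1, f2, hn⟩ := H.two hB
  have hfix : (d * e) • B = B := by rw [mul_smul, f2, ← f1, H.swap hd]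
  have hfix' : ∀ i : ℕ, (d * e) ^ i • B = B := fun i =>
    (stabilizer G B).pow_mem (mem_stabilizer_iff.2 hfix) i
  obtain ⟨b, hb, rfl⟩ := H.ind B
  by_contra hcon
  push Not at hcon
  set h := d * e
  have key : ∀ i j : ℕ, i < j → j < 4 → h ^ i * b * (h ^ i)⁻¹ ≠ h ^ j * b * (h ^ j)⁻¹ :=
    fun i j hij hj he' => by
    obtain ⟨k, rfl⟩ := Nat.exists_eq_add_of_lt hij
    have hc : Commute b (h ^ ((k + 1 : ℕ) : ℤ)) := by
      rw [zpow_natCast]
      show _ = _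
      calc b * h ^ (k + 1) = (h ^ i)⁻¹ * (h ^ i * b * (h ^ i)⁻¹) * h ^ (i + k + 1) := by group
        _ = _ := by rw [he']; group
    refine H.free' hd he hb hn (H.comm_of_pow (H.pw hd he hn) (fun hdv => ?_) hc).symm
    have := Nat.le_of_dvd (Nat.succ_pos k) (Int.natCast_dvd_natCast.1 hdv)
    have := H.p5
    omega
  have := Finset.card_le_card_of_injOn (s := Finset.range 4) (t := {z, e1, e2})
    (fun i => h ^ i * b * (h ^ i)⁻¹) (fun i _ => by
      have := hcon _ (H.cj (h ^ i) b hb) (hfix' i)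
      simp only [Finset.coe_insert, Finset.coe_singleton, Set.mem_insert_iff, Set.mem_singleton_iff]
      tauto) (fun i hi j hj he' => by
      simp only [Finset.coe_range, Set.mem_Iio] at hi hj
      rcases lt_trichotomy i j with h1 | h1 | h1
      · exact absurd he' (key i j h1 hj)
      · exact h1
      · exact absurd he'.symm (key j i h1 hi))
  have h3 := Finset.card_le_three (a := z) (b := e1) (c := e2)
  simp at this
  omega

theorem fix2 {u : G} (hu : u * u = 1) {B : H.Om} (hB : u • B = B) :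
    ∃ a, ∃ ha : a ∈ D, ∃ a' ∈ D, H.mk' a ha = B ∧ a ≠ a' ∧ Commute a a' ∧ Commute u a ∧
      Commute u a' := by
  have ui : u⁻¹ = u := inv_eq_of_mul_eq_one_right hu
  have cf : ∀ a : G, u * a * u⁻¹ = a ↔ Commute u a := fun a => mul_inv_eq_iff_eq_mul
  have cc : ∀ a (ha : a ∈ D), H.mk' a ha = B → Commute a (u * a * u⁻¹) := fun a ha h =>
    (H.mk_eq (hu := ha) (hv := H.cj u a ha)).1 (by rw [← H.smul_mk u a ha, h, hB])
  have s : ∀ a (ha : a ∈ D), H.mk' a ha = B → ¬ Commute u a →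
      ∃ hs : a * (u * a * u⁻¹) ∈ D, H.mk' _ hs = B ∧ Commute u (a * (u * a * u⁻¹)) :=
    fun a ha h hn => by
    have hs := H.clo a ha _ (H.cj u a ha) (cc a ha h) fun he => hn ((cf a).1 he.symm)
    refine ⟨hs, (H.mk_eq.2 ((Commute.refl a).mul_right (cc a ha h)).symm).trans h, (cf _).1 ?_⟩
    rw [(cc a ha h).eq]
    calc u * (u * a * u⁻¹ * a) * u⁻¹ = (u * u) * a * (u⁻¹ * a * u⁻¹) := by group
      _ = _ := by rw [hu, ← (cc a ha h).eq, ui, one_mul]
  by_contra hcon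
  push Not at hcon
  have un : ∀ a (ha : a ∈ D) a' (ha' : a' ∈ D), H.mk' a ha = B → H.mk' a' ha' = B →
      Commute u a → Commute u a' → a = a' := fun a ha a' ha' h h' c c' => by
    by_contra hne
    exact hcon a ha a' ha' h hne (H.mk_eq.1 (h.trans h'.symm)) c c'
  obtain ⟨z, hz, hzB, hzu⟩ : ∃ z, ∃ hz : z ∈ D, H.mk' z hz = B ∧ Commute u z := by
    obtain ⟨b, hb, h⟩ := H.ind B
    by_cases hc : Commute u b
    · exact ⟨b, hb, h, hc⟩
    · obtain ⟨hs, h1, h2⟩ := s b hb h hc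
      exact ⟨_, hs, h1, h2⟩
  have t : ∀ a (ha : a ∈ D), H.mk' a ha = B → a ≠ z → u * a * u⁻¹ = a * z := fun a ha h hne => by
    obtain ⟨hs, h1, h2⟩ := s a ha h fun hc => hne (un a ha z hz h hzB hc hzu)
    rw [← un _ hs z hz h1 hzB h2 hzu, ← mul_assoc, H.sq a ha, one_mul]
  obtain ⟨e, he, heB, hez, -, -⟩ := H.big B z z z
  obtain ⟨f, hf, hfB, hfz, hfe, hfez⟩ := H.big B z e (e * z)
  have cef : Commute e f := H.mk_eq.1 (heB.trans hfB.symm)
  have czf : Commute z f := H.mk_eq.1 (hzB.trans hfB.symm)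
  have hm := H.clo e he f hf cef hfe.symm
  have h1 : H.mk' _ hm = B := (H.mk_eq.2 ((Commute.refl e).mul_right cef).symm).trans heB
  have h2 : Commute u (e * f) := (cf _).1 (by
    calc u * (e * f) * u⁻¹ = (u * e * u⁻¹) * (u * f * u⁻¹) := by group
      _ = e * (z * f) * z := by rw [t e he heB hez, t f hf hfB hfz]; group
      _ = e * f * (z * z) := by rw [czf.eq]; group
      _ = e * f := by rw [H.sq z hz, mul_one])
  exact hfez (by rw [← un _ hm z hz h1 hzB h2 hzu, ← mul_assoc, H.sq e he, one_mul])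

theorem odd_stab [Finite G] {B B' : H.Om} (hB : B ≠ B') :
    Odd (Nat.card ↥(stabilizer G B ⊓ stabilizer G B')) := by
  rw [← Nat.not_even_iff_odd]
  intro hev
  haveI : Fact (Nat.Prime 2) := ⟨Nat.prime_two⟩
  obtain ⟨⟨u, hu1, hu2⟩, ho⟩ := exists_prime_orderOf_dvd_card' 2 hev.two_dvd
  rw [← Subgroup.orderOf_coe] at ho
  have hu : u * u = 1 := by rw [← pow_two, ← ho]; exact pow_orderOf_eq_one u
  obtain ⟨a, ha, a', ha', h1, hne, hc, c1, c2⟩ := H.fix2 hu hu1
  obtain ⟨y, hy, -, -, h2, -, -, c3, -⟩ := H.fix2 hu hu2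
  have := H.cen a ha a' ha' y hy hne hc (fun h => hB (h1.symm.trans ((H.mk_eq.2 h).trans h2))) u
    c1 c2 c3
  simp [this] at ho

include H in
theorem exists_fpf [Finite G] : ∃ h : G, h ^ p = 1 ∧ ∀ B : H.Om, h • B ≠ B := by
  obtain ⟨d, hd, -, -, y0, hy0, -, -, hn0⟩ := H.ex
  by_contra hcon
  push Not at hcon
  have ch : ∀ e : {e : G // e ∈ D ∧ ¬ Commute d e}, ∃ B : H.Om, (d * e.1) • B = B :=
    fun e => hcon _ (H.pw hd e.2.1 e.2.2)
  choose β hβ using ch
  have ch2 := H.ind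
  choose r hr hrr using ch2
  have h1 : ∀ e, e.1 • β e = d • β e := fun e => by
    conv_rhs => rw [← hβ e, mul_smul, H.swap hd]
  have h2 : ∀ e, d • β e ≠ β e := fun e h => by
    have h' := h1 e
    rw [h, H.fix_iff e.2.1] at h'
    rw [H.fix_iff hd] at h
    exact e.2.2 (H.mk_eq.1 (h.trans h'.symm))
  have cl : ∀ (c : G) (hc : c ∈ D) (B : H.Om), H.mk' _ (H.cj' hc (hr B)) = c • B :=
    fun c hc B => by
    conv_rhs => rw [← hrr B, smul_mk]
    rw [mk_eq, H.inv hc]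
  have nd : ∀ (c : G) (hc : c ∈ D) (B : H.Om), d • B ≠ B → c • B = d • B →
      ¬ Commute d (c * r B * c) := fun c hc B hB h hcm => by
    have := (H.mk_eq (hu := hd) (hv := H.cj' hc (hr B))).2 hcm
    rw [cl c hc, h, ← H.fix_iff hd, H.swap hd] at this
    exact hB this.symm
  let φ : {e : G // e ∈ D ∧ ¬ Commute d e} → {e : G // e ∈ D ∧ ¬ Commute d e} := fun e =>
    ⟨e.1 * r (β e) * e.1, H.cj' e.2.1 (hr _), nd e.1 e.2.1 _ (h2 e) (h1 e)⟩
  have key : ∀ e (c : G) (hc : c ∈ D) (B : H.Om), c • B = d • B →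
      (φ e).1 = c * r B * c → e.1 = c := fun e c hc B h he => by
    have e1 : d • β e = d • B := by
      rw [← h1, ← h, ← cl e.1 e.2.1, ← cl c hc, mk_eq]
      exact he ▸ Commute.refl _
    have e2 : β e = B := smul_left_cancel d e1
    subst e2
    refine H.uniq (hr _) e.2.1 hc (fun hcm => h2 e ?_) he
    rw [← h1, H.fix_iff e.2.1, ← hrr (β e), mk_eq]
    exact hcm
  have inj : Function.Injective φ := fun e e' he =>
    Subtype.ext (key e e'.1 e'.2.1 _ (h1 e') (congrArg Subtype.val he))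
  have hB0 : d • H.mk' y0 hy0 ≠ H.mk' y0 hy0 := fun h => hn0 (H.mk_eq.1 ((H.fix_iff hd _).1 h))
  obtain ⟨e, he⟩ := Finite.injective_iff_surjective.1 inj
    ⟨d * r (H.mk' y0 hy0) * d, H.cj' hd (hr _), nd d hd _ hB0 rfl⟩
  exact e.2.2 (by rw [key e d hd _ rfl (congrArg Subtype.val he)])

end R1

end Cfsg.Agent.PTr
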