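import Cfsg.Agent.PTr.C
import Cfsg.Agent.S0023

/-! The rank one configuration does not exist. -/

set_option autoImplicit false

namespace Cfsg.Agent.PTr

open MulAction Subgroup
open scoped Pointwise

variable {G : Type*} [Group G]

theorem pgroup_zpowers {p : ℕ} {h : G} (hp : h ^ p = 1) : IsPGroup p (zpowers h) := by
  rintro ⟨_, k, rfl⟩
  exact ⟨1, Subtype.ext (by
    simp only [pow_one, SubgroupClass.coe_pow, OneMemClass.coe_one]
    rw [← zpow_natCast, ← zpow_mul, mul_comm, zpow_mul, zpow_natCast, hp, one_zpow])⟩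

theorem eq_of_fix {W : Type*} [Group W] {p : ℕ} (hp : Odd p) {x y z : W} (hx : x * x = 1)
    (hy : y * y = 1) (h1 : (z * x) ^ p = 1) (h2 : (z * y) ^ p = 1)
    (h : x * y * z * (x * y)⁻¹ = z) : x = y := by
  have xi : x⁻¹ = x := inv_eq_of_mul_eq_one_right hx
  have yi : y⁻¹ = y := inv_eq_of_mul_eq_one_right hy
  refine mul_left_cancel (eq_of_sq hp h1 h2 ?_)
  calc z * x * (z * x) = z * x * (x * y * z * (x * y)⁻¹ * x) := by rw [h]
    _ = z * (x * x) * y * z * y⁻¹ := by group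
    _ = _ := by rw [hx, yi]; group

namespace R1
variable {p : ℕ} {D : Set G} (H : R1 p D) [Finite G]

theorem dvd_card : p ∣ Nat.card H.Om := by
  haveI : Fact p.Prime := ⟨H.pp⟩
  obtain ⟨h, hp, hf⟩ := H.exists_fpf
  have h1 := (pgroup_zpowers hp).card_modEq_card_fixedPoints H.Om
  haveI : IsEmpty (fixedPoints (zpowers h) H.Om) := ⟨fun B => hf B.1 (B.2 ⟨h, mem_zpowers h⟩)⟩
  rw [Nat.card_of_isEmpty (α := fixedPoints (zpowers h) H.Om)] at h1
  exact (Nat.modEq_zero_iff_dvd).1 h1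

/-- `P` is of largest order among the `p`-subgroups fixing a class. -/
structure Mx (P : Subgroup G) : Prop where
  pg : IsPGroup p P
  mx : ∀ Q : Subgroup G, IsPGroup p Q → (∃ B : H.Om, ∀ x ∈ Q, x • B = B) → P ≤ Q → Q = P

theorem exists_mx : ∃ P, H.Mx P ∧ ∃ B : H.Om, ∀ x ∈ P, x • B = B := by
  obtain ⟨a, ha, -⟩ := H.ex
  obtain ⟨P, ⟨h1, h2⟩, h3⟩ := Set.exists_max_image
    {Q : Subgroup G | IsPGroup p Q ∧ ∃ B : H.Om, ∀ x ∈ Q, x • B = B} (fun Q => Nat.card Q)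
    (Set.toFinite _) ⟨⊥, IsPGroup.of_bot, H.mk' a ha, fun x hx => by
      rw [mem_bot.1 hx, one_smul]⟩
  exact ⟨P, ⟨h1, fun Q q1 q2 hle => (eq_of_le_of_card_ge hle (h3 Q ⟨q1, q2⟩)).symm⟩, h2⟩

variable {H} {P : Subgroup G}

theorem Mx.conj (M : H.Mx P) {K : Subgroup G} (hPK : P ≤ K) {B : H.Om} (hK : ∀ x ∈ K, x • B = B)
    (Q : Sylow p K) :
    ∃ x ∈ K, ∀ g, g ∈ (Q : Subgroup K).map K.subtype ↔ x * g * x⁻¹ ∈ P := by
  haveI : Fact p.Prime := ⟨H.pp⟩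
  obtain ⟨Q', hQ'⟩ := (M.pg.comap_subtype (K := K)).exists_le_sylow
  have e : (Q' : Subgroup K).map K.subtype = P := M.mx _ (Q'.isPGroup'.map _)
    ⟨B, fun x hx => hK x (map_subtype_le _ hx)⟩ fun x hx => ⟨⟨x, hPK hx⟩, hQ' hx, rfl⟩
  obtain ⟨x, rfl⟩ := exists_smul_eq K Q Q'
  refine ⟨x, x.2, fun g => ?_⟩
  rw [← e]
  constructor
  · rintro ⟨g, hg, rfl⟩
    exact ⟨x * g * x⁻¹, smul_mem_pointwise_smul g (MulAut.conj x) _ hg, rfl⟩
  · rintro ⟨k, hk, hkg⟩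
    rw [SetLike.mem_coe, Sylow.coe_subgroup_smul, mem_pointwise_smul_iff_inv_smul_mem] at hk
    refine ⟨_, hk, ?_⟩
    simp only [coe_subtype] at hkg
    simp [hkg, mul_assoc]

theorem Mx.exists_T (M : H.Mx P) {B B' : H.Om} (hB : B ≠ B') (h1 : ∀ x ∈ P, x • B = B)
    (h2 : ∀ x ∈ P, x • B' = B') :
    (∃ d ∈ D, d • B = B' ∧ d ∈ normalizer (P : Set G)) ∧
      ∃ d ∈ D, ∃ e ∈ D, ¬ Commute d e ∧ d * e ∈ P := by
  haveI : Fact p.Prime := ⟨H.pp⟩
  set K := stabilizer G B ⊓ stabilizer G B'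
  have hPK : P ≤ K := fun x hx => ⟨h1 x hx, h2 x hx⟩
  have hK : ∀ x ∈ K, x • B = B := fun x hx => hx.1
  obtain ⟨d, hd, e, he, f1, f2, hn⟩ := H.two hB
  have f1' : d • B' = B := by rw [← f1, H.swap hd]
  have f2' : e • B' = B := by rw [← f2, H.swap he]
  constructor
  · have hdK : ∀ x ∈ K, d * x * d ∈ K := fun x hx =>
      ⟨show (d * x * d) • B = B by rw [mul_smul, mul_smul, f1, hx.2, f1'],
       show (d * x * d) • B' = B' by rw [mul_smul, mul_smul, f1', hx.1, f1]⟩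
    have hdN : d ∈ normalizer (K : Set G) := mem_normalizer_iff.2 fun x => by
      rw [H.inv hd]
      refine ⟨hdK x, fun hx => ?_⟩
      have := hdK _ hx
      rwa [show d * (d * x * d) * d = (d * d) * x * (d * d) by group, H.sq d hd, one_mul,
        mul_one] at this
    have ho : orderOf d = 2 := orderOf_eq_prime (by rw [pow_two, H.sq d hd])
      fun h => H.one (h ▸ hd)
    obtain ⟨Q, hQ⟩ := S0023.result (zpowers d) K (zpowers_le.2 hdN)
      (by rw [Nat.card_zpowers, ho]; exact Nat.coprime_two_left.2 (H.odd_stab hB))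
      (Or.inl inferInstance) p
    obtain ⟨x, hx, hxQ⟩ := M.conj hPK hK Q
    refine ⟨_, H.cj x d hd, ?_, mem_normalizer_iff.2 fun g => ?_⟩
    · rw [mul_smul, mul_smul, hK _ (inv_mem hx), f1]; exact hx.2
    · have := mem_normalizer_iff.1 (hQ (mem_zpowers d)) (x⁻¹ * g * x)
      rw [hxQ, hxQ] at this
      convert this using 2 <;> group
  · have hm : d * e ∈ K := ⟨show (d * e) • B = B by rw [mul_smul, f2, f1'],
      show (d * e) • B' = B' by rw [mul_smul, f2', f1]⟩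
    obtain ⟨Q, hQ⟩ := (pgroup_zpowers (h := (⟨d * e, hm⟩ : K))
      (Subtype.ext (H.pw hd he hn))).exists_le_sylow
    obtain ⟨x, hx, hxQ⟩ := M.conj hPK hK Q
    refine ⟨_, H.cj x d hd, _, H.cj x e he, fun h => hn ((comm_cj x).1 h), ?_⟩
    have := (hxQ (d * e)).1 ⟨_, hQ (mem_zpowers _), rfl⟩
    convert this using 1
    group

variable (H) in
include H in
theorem false : False := by
  classical
  haveI : Fact p.Prime := ⟨H.pp⟩
  obtain ⟨P, M, B0, hB0⟩ := H.exists_mx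
  set Φ := fixedPoints P H.Om
  have mΦ : ∀ B, B ∈ Φ ↔ ∀ x ∈ P, x • B = B := fun B =>
    ⟨fun h x hx => h ⟨x, hx⟩, fun h x => h x.1 x.2⟩
  have d1 : p ∣ Φ.ncard := (Nat.modEq_zero_iff_dvd).1
    ((M.pg.card_modEq_card_fixedPoints H.Om).symm.trans (Nat.modEq_zero_iff_dvd.2 H.dvd_card))
  have d2 := Set.ncard_diff_singleton_add_one ((mΦ B0).2 hB0)
  have d3 : 1 < (Φ \ {B0}).ncard := by
    have := Nat.le_of_dvd (by omega) d1
    have := H.p5
    omega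
  obtain ⟨B1, ⟨m1, n1⟩, B2, ⟨m2, n2⟩, n12⟩ := (Set.one_lt_ncard (Set.toFinite _)).1 d3
  obtain ⟨a, ha, b, hb, nab, habP⟩ := (M.exists_T (Ne.symm n1) hB0 ((mΦ _).1 m1)).2
  set N := normalizer (P : Set G)
  have nP : ∀ d ∈ N, ∀ x ∈ P, d * x * d⁻¹ ∈ P := fun d hd x hx => (mem_normalizer_iff.1 hd x).1 hx
  have pP : ∀ x ∈ P, x * x = 1 → x = 1 := fun x hx h => by
    obtain ⟨k, hk⟩ := M.pg ⟨x, hx⟩
    exact one_of_sq (H.odd.pow (n := k)) (congrArg Subtype.val hk) h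
  have NΦ : ∀ d ∈ N, ∀ B ∈ Φ, d • B ∈ Φ := fun d hd B hB => (mΦ _).2 fun x hx => by
    have := (mΦ _).1 hB _ (nP _ (inv_mem hd) x hx)
    rw [← mul_smul, show x * d = d * (d⁻¹ * x * d⁻¹⁻¹) by group, mul_smul, this]
  have mv : ∀ d ∈ D, d ∈ N → ∀ B ∈ Φ, d • B ≠ B := fun d hd hN B hB h => by
    rw [H.fix_iff hd] at h
    set x := a * b
    have h1 : Commute d (x * d * x⁻¹) := (H.mk_eq (hu := hd) (hv := H.cj x d hd)).1 (by
      rw [← H.smul_mk x d hd, h, (mΦ _).1 hB x habP])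
    have h2 := pP (d * (x * d * x⁻¹)) (by
      have := mul_mem (nP d hN x habP) (inv_mem habP)
      rwa [H.inv hd, mul_assoc d, mul_assoc d] at this)
      (sq_of_comm (H.sq d hd) (H.sq _ (H.cj x d hd)) h1)
    refine H.free' ha hb hd nab (mul_inv_eq_iff_eq_mul.1 ?_)
    rw [← H.inv hd]
    nth_rewrite 1 [H.inv hd]
    exact (eq_inv_of_mul_eq_one_right h2)
  let π := QuotientGroup.mk' (P.subgroupOf N)
  have πe : ∀ n : N, π n = 1 ↔ n.1 ∈ P := fun n => QuotientGroup.eq_one_iff n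
  have πs : ∀ d ∈ D, ∀ hN : d ∈ N, π ⟨d, hN⟩ * π ⟨d, hN⟩ = 1 := fun d hd hN => by
    rw [← map_mul, ← map_one π]; exact congrArg π (Subtype.ext (H.sq d hd))
  have pw : ∀ d ∈ D, d ∈ N → ∀ e ∈ D, e ∈ N → (e * d) ^ p = 1 := fun d hd hdN e he heN => by
    by_cases hc : Commute e d
    · suffices e * d = 1 by rw [this, one_pow]
      obtain ⟨x, hx, hxC⟩ : ∃ x ∈ P, x • H.mk' d hd ≠ H.mk' d hd := by
        by_contra hcon
        push Not at hcon
        exact mv d hd hdN _ ((mΦ _).2 hcon) ((H.fix_iff hd _).2 rfl)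
      have hxN : x ∈ N := le_normalizer hx
      have h1 := H.pw he (H.cj x d hd) fun h => hxC (by
        rw [H.smul_mk, H.mk_eq]; exact H.eqv e he _ (H.cj x d hd) d hd h hc)
      have h2 : (π ⟨e, heN⟩ * (π ⟨x, hxN⟩ * π ⟨d, hdN⟩ * (π ⟨x, hxN⟩)⁻¹)) ^ p = 1 := by
        rw [← map_inv, ← map_mul, ← map_mul, ← map_mul, ← map_pow, ← map_one π]
        exact congrArg π (Subtype.ext h1)
      rw [(πe ⟨x, hxN⟩).2 hx, one_mul, inv_one, mul_one, ← map_mul] at h2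
      have h3 := sq_of_comm (H.sq e he) (H.sq d hd) hc
      have h4 := one_of_sq H.odd h2 (by
        rw [← map_mul, ← map_one π]; exact congrArg π (Subtype.ext h3))
      exact pP _ ((πe _).1 h4) h3
    · exact H.pw he hd hc
  have fib : ∀ d ∈ D, d ∈ N → ∀ e ∈ D, e ∈ N → (d • B0 = e • B0 ↔ d * e ∈ P) :=
    fun d hd hdN e he heN => by
    constructor
    · intro h
      have hf : (d * e) • B0 = B0 := by rw [mul_smul, ← h, H.swap hd]
      have := M.mx (zpowers (d * e) ⊔ P) (IsPGroup.to_sup_of_normal_right'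
        (pgroup_zpowers (pw e he heN d hd hdN)) M.pg (zpowers_le.2 (mul_mem hdN heN)))
        ⟨B0, (sup_le (zpowers_le.2 hf) hB0 : _ ≤ stabilizer G B0)⟩ le_sup_right
      rw [← this]
      exact mem_sup_left (mem_zpowers _)
    · intro h
      conv_lhs => rw [← hB0 _ h, mul_smul, H.swap hd]
  have ch : ∀ B : ↥(Φ \ {B0}), ∃ d ∈ D, d • B0 = B.1 ∧ d ∈ N := fun B =>
    (M.exists_T (Ne.symm B.2.2) hB0 ((mΦ _).1 B.2.1)).1
  choose τ τD τB τN using ch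
  set c1 := τ ⟨B1, m1, n1⟩
  set c2 := τ ⟨B2, m2, n2⟩
  have c1D : c1 ∈ D := τD _
  have c2D : c2 ∈ D := τD _
  have c1N : c1 ∈ N := τN _
  have c2N : c2 ∈ N := τN _
  set h := c1 * c2
  have hN : h ∈ N := mul_mem c1N c2N
  have cN : ∀ g ∈ N, ∀ d ∈ N, g * d * g⁻¹ ∈ N := fun g hg d hd =>
    mul_mem (mul_mem hg hd) (inv_mem hg)
  have hΦ := (mΦ B0).2 hB0
  let σ : Function.End ↥(Φ \ {B0}) := fun B =>
    ⟨(h * τ B * h⁻¹) • B0, NΦ _ (cN h hN _ (τN B)) _ hΦ,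
      mv _ (H.cj h _ (τD B)) (cN h hN _ (τN B)) _ hΦ⟩
  have s1 : ∀ B, ∀ d ∈ D, d ∈ N → d • B0 = B.1 → (σ B).1 = (h * d * h⁻¹) • B0 :=
    fun B d hd hdN e => by
    refine (fib _ (H.cj h _ (τD B)) (cN h hN _ (τN B)) _ (H.cj h d hd) (cN h hN d hdN)).2 ?_
    have := nP h hN _ ((fib _ (τD B) (τN B) d hd hdN).1 ((τB B).trans e.symm))
    convert this using 1
    group
  have s2 : ∀ (k : ℕ) B, ((σ ^ k) B).1 = (h ^ k * τ B * (h ^ k)⁻¹) • B0 := fun k B => by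
    induction k with
    | zero => simp [τB]; rfl
    | succ k ih =>
      rw [pow_succ' σ]
      show (σ ((σ ^ k) B)).1 = _
      rw [s1 _ _ (H.cj (h ^ k) _ (τD B)) (cN _ (pow_mem hN k) _ (τN B)) ih.symm]
      congr 1
      group
  have s3 : σ ^ p ^ 1 = 1 := funext fun B => Subtype.ext (by
    rw [pow_one, s2, pw c2 c2D c2N c1 c1D c1N]; simp [τB]; rfl)
  haveI := Fintype.ofFinite ↥(Φ \ {B0})
  have s4 := Equiv.Perm.card_fixedPoints_modEq s3
  haveI : IsEmpty σ.fixedPoints := ⟨fun ⟨B, hB⟩ => by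
    have e1 : (h * τ B * h⁻¹) • B0 = τ B • B0 := (congrArg Subtype.val hB).trans (τB B).symm
    rw [fib _ (H.cj h _ (τD B)) (cN h hN _ (τN B)) _ (τD B) (τN B)] at e1
    have pw' : ∀ d ∈ D, ∀ hdN : d ∈ N, (π ⟨τ B, τN B⟩ * π ⟨d, hdN⟩) ^ p = 1 := fun d hd hdN => by
      rw [← map_mul, ← map_pow, ← map_one π]
      exact congrArg π (Subtype.ext (pw d hd hdN _ (τD B) (τN B)))
    have e2 := eq_of_fix H.odd (πs c1 c1D c1N) (πs c2 c2D c2N) (pw' c1 c1D c1N) (pw' c2 c2D c2N)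
      (mul_right_cancel (b := π ⟨τ B, τN B⟩) (by
        rw [πs _ (τD B), ← map_mul, ← map_inv, ← map_mul, ← map_mul, ← map_mul, πe]
        exact e1))
    have e3 : c1 * c2 ∈ P := (πe (⟨c1, c1N⟩ * ⟨c2, c2N⟩)).1 (by
      rw [map_mul, e2, πs c2 c2D])
    rw [← fib c1 c1D c1N c2 c2D c2N, τB, τB] at e3
    exact n12 e3⟩
  rw [Fintype.card_eq_zero (α := σ.fixedPoints), Nat.modEq_zero_iff_dvd, ← Nat.card_eq_fintype_card,
    Nat.card_coe_set_eq] at s4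
  rw [← d2] at d1
  exact H.pp.one_lt.ne' (Nat.dvd_one.1 ((Nat.dvd_add_right s4).1 d1))

end R1

end Cfsg.Agent.PTr
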