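import Cfsg.Agent.PTr.B
import Cfsg.Agent.PTr.D

/-! Every set of `p`-transpositions, `p ≥ 5`, has the "order four" property. -/

set_option autoImplicit false

namespace Cfsg.Agent.PTr

open Subgroup

universe u

structure Bad {G : Type*} [Group G] (D : Set G) (a b y : G) : Prop where
  ha : a ∈ D
  hb : b ∈ D
  hy : y ∈ D
  c : Commute a b
  na : ¬ Commute a y
  nb : ¬ Commute b y
  n : ¬ Commute (a * y * a) (b * y * b)

theorem four_iff {G : Type*} [Group G] {D : Set G} : Four D ↔ ∀ a b y, ¬ Bad D a b y :=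
  ⟨fun h _ _ _ B => B.n (h _ B.ha _ B.hb _ B.hy B.c B.na B.nb), fun h a ha b hb y hy c na nb => by
    by_contra hn
    exact h a b y ⟨ha, hb, hy, c, na, nb, hn⟩⟩

def IH (p : ℕ) (G : Type u) [Group G] : Prop :=
  ∀ (K : Type u) [Group K] [Finite K], Nat.card K < Nat.card G → ∀ D : Set K, PT p D → Four D

variable {G : Type u} [Group G] [Finite G] {p : ℕ} {D : Set G}

theorem IH.gen (ih : IH p G) (H : PT p D) {a b y : G} (B : Bad D a b y) {K : Subgroup G}
    (ha : a ∈ K) (hb : b ∈ K) (hy : y ∈ K) : K = ⊤ := by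
  by_contra hK
  have hlt : Nat.card K < Nat.card G := by
    rw [← K.index_mul_card]
    exact lt_mul_of_one_lt_left Nat.card_pos (one_lt_index_of_ne_top hK)
  have cm : ∀ u v : K, Commute u v ↔ Commute u.1 v.1 := fun u v => Subtype.ext_iff
  have := ih K hlt (Subtype.val ⁻¹' D) ⟨H.pp, H.p5, fun d hd => Subtype.ext (H.sq _ hd),
    fun g d hd => H.cj g.1 d.1 hd, fun d hd e he => by
      rw [cm, Subtype.ext_iff]; exact H.ord _ hd _ he⟩
    ⟨a, ha⟩ B.ha ⟨b, hb⟩ B.hb ⟨y, hy⟩ B.hy ((cm _ _).2 B.c) (fun h => B.na ((cm _ _).1 h))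
    (fun h => B.nb ((cm _ _).1 h))
  exact B.n ((cm _ _).1 this)

theorem IH.normal (ih : IH p G) (H : PT p D) {a b y : G} (B : Bad D a b y) (N : Subgroup G)
    [N.Normal] (hN : N ≠ ⊥) : ∃ u ∈ D, ∃ v ∈ D, ¬ Commute u v ∧ u * v ∈ N := by
  have hlt : Nat.card (G ⧸ N) < Nat.card G := by
    rw [card_eq_card_quotient_mul_card_subgroup N]
    exact lt_mul_of_one_lt_right Nat.card_pos ((one_lt_card_iff_ne_bot N).2 hN)
  let π := QuotientGroup.mk' N
  have H' : PT p (π '' D) := ⟨H.pp, H.p5,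
    by rintro _ ⟨d, hd, rfl⟩; rw [← map_mul, H.sq d hd, map_one],
    by
      rintro g _ ⟨d, hd, rfl⟩
      obtain ⟨g, rfl⟩ := QuotientGroup.mk'_surjective N g
      exact ⟨_, H.cj g d hd, by simp [π]⟩,
    by
      rintro _ ⟨d, hd, rfl⟩ _ ⟨e, he, rfl⟩
      exact (H.ord d hd e he).imp (fun h => h.map π) fun h => by
        rw [← map_mul, ← map_pow, h, map_one]⟩
  by_contra hcon
  have key : ∀ u ∈ D, ∀ v ∈ D, ¬ Commute u v → ¬ Commute (π u) (π v) := fun u hu v hv hn hc => by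
    refine hcon ⟨u, hu, v, hv, hn, (QuotientGroup.eq_one_iff _).1 ?_⟩
    show π (u * v) = 1
    refine one_of_sq H.odd (by rw [← map_pow, H.pw hu hv hn, map_one]) ?_
    rw [map_mul]
    exact sq_of_comm (H'.sq _ ⟨u, hu, rfl⟩) (H'.sq _ ⟨v, hv, rfl⟩) hc
  have := ih _ hlt _ H' _ ⟨a, B.ha, rfl⟩ _ ⟨b, B.hb, rfl⟩ _ ⟨y, B.hy, rfl⟩ (B.c.map π)
    (key _ B.ha _ B.hy B.na) (key _ B.hb _ B.hy B.nb)
  exact key _ (H.cj' B.ha B.hy) _ (H.cj' B.hb B.hy) B.n (by simpa only [map_mul] using this)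

theorem IH.cen (ih : IH p G) (H : PT p D) {a b y : G} (B : Bad D a b y) {g : G}
    (ha : Commute g a) (hb : Commute g b) (hy : Commute g y) : g = 1 := by
  have h1 := ih.gen H B (K := centralizer {g}) (mem_centralizer_singleton_iff.2 ha.symm)
    (mem_centralizer_singleton_iff.2 hb.symm) (mem_centralizer_singleton_iff.2 hy.symm)
  have h2 : ∀ x, Commute g x := fun x =>
    (mem_centralizer_singleton_iff.1 (h1 ▸ mem_top x : x ∈ centralizer {g})).symm
  by_contra hg
  haveI : (zpowers g).Normal := ⟨by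
    rintro _ ⟨k, rfl⟩ x
    rw [← ((h2 x).zpow_left k).eq, mul_inv_cancel_right]
    exact ⟨k, rfl⟩⟩
  obtain ⟨u, hu, v, hv, hn, k, hk⟩ := ih.normal H B (zpowers g) (by simpa using hg)
  have h3 : Commute u (u * v) := hk ▸ ((h2 u).zpow_left k).symm
  have := (Commute.refl u).mul_right h3
  rw [← mul_assoc, H.sq u hu, one_mul] at this
  exact hn this

theorem IH.trip (ih : IH p G) (H : PT p D) {a b y : G} (B : Bad D a b y) : a * b ∈ D := by
  have aa := H.sq a B.ha
  have bb := H.sq b B.hb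
  have tt := sq_of_comm aa bb B.c
  set t := a * b with ht
  have ti : t⁻¹ = t := inv_eq_of_mul_eq_one_right tt
  have hn : ¬ Commute y (t * y * t⁻¹) := fun h => B.n (by
    have := (comm_cj a).2 h
    rw [H.inv B.ha] at this
    convert this using 1
    rw [ht, mul_inv_rev, H.inv B.ha, H.inv B.hb]
    calc b * y * b = (a * a) * b * y * b * (a * a) := by rw [aa]; group
      _ = _ := by group)
  obtain ⟨c, hc, e⟩ := H.mid B.hy (H.cj t y B.hy) hn
  have nc : ¬ Commute c y := fun h => hn (by rw [← e, (H.comm_iff hc).2 h])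
  have e2 : c = t * c * t⁻¹ := H.uniq B.hy hc (H.cj t c hc) nc (by
    have e3 : c * (t * y * t⁻¹) * c = y := by
      rw [← e]
      calc c * (c * y * c) * c = (c * c) * y * (c * c) := by group
        _ = y := by rw [H.sq c hc]; group
    calc c * y * c = t * (c * (t * y * t⁻¹) * c) * t⁻¹ := by rw [e3, e]
      _ = t * c * t * y * t⁻¹ * c * t⁻¹ := by group
      _ = _ := by rw [ti]; group)
  have ctc : Commute t c := mul_inv_eq_iff_eq_mul.1 e2.symm
  rcases H.free B.ha B.hb hc ctc with rfl | ⟨c1, c2⟩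
  · exact absurd (Commute.refl _) B.n
  have s1 : t * c = 1 := ih.cen H B (((Commute.refl a).mul_left B.c.symm).mul_left c1.symm)
    ((B.c.mul_left (Commute.refl b)).mul_left c2.symm) (by
      show t * c * y = y * (t * c)
      calc t * c * y = t * (c * y * c) * c := by
            rw [mul_assoc t, mul_assoc t, mul_assoc _ c c, H.sq c hc, mul_one]
        _ = (t * t) * y * t⁻¹ * c := by rw [e]; group
        _ = _ := by rw [tt, ti]; group)
  rw [eq_inv_of_mul_eq_one_left s1, H.inv hc]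
  exact hc

theorem PT.bad (H : PT p D) (h1 : (1 : G) ∉ D) {a b y : G} (ha : a ∈ D) (hb : b ∈ D)
    (hab : a * b ∈ D) (hy : y ∈ D) (na : ¬ Commute a y) : Bad D a b y := by
  have k : ∀ a ∈ D, ∀ b ∈ D, a * b ∈ D → ¬ Commute a y → ¬ Commute b y :=
    fun a ha b hb hab na h => by
    have c := comm_of_sq (H.sq a ha) (H.sq b hb) (H.sq _ hab)
    have := H.uniq hy ha hab na (by
      calc a * y * a = a * (b * y * b) * a := by rw [(H.comm_iff hb).2 h]
        _ = a * b * y * (b * a) := by group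
        _ = _ := by rw [← c.eq])
    exact h1 (by rwa [← left_eq_mul.1 this])
  have c := comm_of_sq (H.sq a ha) (H.sq b hb) (H.sq _ hab)
  refine ⟨ha, hb, hy, c, na, k a ha b hb hab na, fun h => ?_⟩
  refine H.nc_cj hab hy (k a ha _ hab (by rwa [← mul_assoc, H.sq a ha, one_mul]) na) ?_
  have := (comm_cj a).2 h
  rw [H.inv ha] at this
  convert this using 1
  · calc y = (a * a) * y * (a * a) := by rw [H.sq a ha]; group
      _ = _ := by group
  · nth_rewrite 2 [c.eq]; group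

theorem IH.false (ih : IH p G) (H : PT p D) {a b y : G} (B : Bad D a b y)
    (cls : ∀ d ∈ D, ∀ e ∈ D, ∃ g : G, g * d * g⁻¹ = e) : False := by
  have h1 : (1 : G) ∉ D := fun h => by
    obtain ⟨g, hg⟩ := cls 1 h a B.ha
    exact B.na (by rw [← hg]; simp)
  have mate : ∀ v ∈ D, ∃ v' ∈ D, v * v' ∈ D := fun v hv => by
    obtain ⟨g, rfl⟩ := cls a B.ha v hv
    refine ⟨_, H.cj g b B.hb, ?_⟩
    convert H.cj g _ (ih.trip H B) using 1
    group
  have eqv : ∀ u ∈ D, ∀ v ∈ D, ∀ w ∈ D, Commute u v → Commute u w → Commute v w :=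
    fun u hu v hv w hw c1 c2 => by
    by_contra hn
    obtain ⟨v', hv', hm⟩ := mate v hv
    have c := comm_of_sq (H.sq v hv) (H.sq v' hv') (H.sq _ hm)
    have c3 : Commute u v' := by
      by_contra hn'
      exact (H.bad h1 hv' hv (c.eq ▸ hm) hu fun h => hn' h.symm).nb c1.symm
    exact h1 (ih.cen H (H.bad h1 hv hv' hm hw hn) c1 c3 c2 ▸ hu)
  have clo : ∀ a ∈ D, ∀ b ∈ D, Commute a b → a ≠ b → a * b ∈ D := fun a ha b hb c hne => by
    by_contra hm
    obtain ⟨N, hN, h2, hN'⟩ := H.tau eqv ha hb c hne fun y hy => by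
      by_cases hc : Commute a y
      · rw [(hc.mul_left (eqv a ha b hb y hy c hc)).eq, mul_inv_cancel_right]
      · have hc' : ¬ Commute b y := fun h => hc (eqv b hb a ha y hy c.symm h)
        have h3 : Commute (a * y * a) (b * y * b) := by
          by_contra hn
          exact hm (ih.trip H ⟨ha, hb, hy, c, hc, hc', hn⟩)
        have := (comm_cj a).2 h3
        rw [H.inv ha] at this
        convert this using 1
        · calc y = (a * a) * y * (a * a) := by rw [H.sq a ha]; group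
            _ = _ := by group
        · rw [mul_inv_rev, H.inv ha, H.inv hb]; group
    obtain ⟨u, hu, v, hv, hn, hm⟩ := ih.normal H B N hN'
    obtain ⟨k, hk⟩ := h2 ⟨_, hm⟩
    have h3 : orderOf (u * v) = 1 := Nat.eq_one_of_dvd_coprimes
      (Nat.Coprime.pow_left k (Nat.coprime_two_left.2 H.odd))
      (orderOf_dvd_of_pow_eq_one (congrArg Subtype.val hk))
      (orderOf_dvd_of_pow_eq_one (H.pw hu hv hn))
    rw [orderOf_eq_one_iff] at h3
    exact hn (comm_of_sq (H.sq u hu) (H.sq v hv) (by rw [h3, one_mul]))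
  exact R1.false (p := p) (D := D) ⟨H, h1, cls, eqv, clo,
    fun a ha b hb y hy hne c hn g c1 c2 c3 =>
      ih.cen H (H.bad h1 ha hb (clo a ha b hb c hne) hy hn) c1 c2 c3,
    a, B.ha, b, B.hb, y, B.hy, fun h => B.n (by rw [h]), B.c, B.na⟩

theorem four_aux (p n : ℕ) : ∀ (G : Type u) [Group G] [Finite G], Nat.card G = n →
    ∀ D : Set G, PT p D → Four D := by
  induction n using Nat.strong_induction_on with | _ n ih => ?_
  intro G _ _ hG D H
  refine four_iff.2 fun a b y B => ?_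
  have ih' : IH p G := fun K _ _ hK => ih _ (hG ▸ hK) K rfl
  have sub : ∀ d ∈ {d | ∃ g : G, g * a * g⁻¹ = d}, d ∈ D := by
    rintro _ ⟨g, rfl⟩; exact H.cj g a B.ha
  obtain ⟨c, hc, e⟩ := H.mid B.ha B.hy B.na
  obtain ⟨c', hc', e'⟩ := H.mid B.hy B.hb fun h => B.nb h.symm
  refine ih'.false (D := {d | ∃ g : G, g * a * g⁻¹ = d}) ⟨H.pp, H.p5, fun d hd => H.sq d (sub d hd),
    ?_, fun d hd e he => H.ord d (sub d hd) e (sub e he)⟩
    ⟨⟨1, by simp⟩, ⟨c' * c, ?_⟩, ⟨c, by rw [H.inv hc, e]⟩, B.c, B.na, B.nb, B.n⟩ ?_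
  · rintro g _ ⟨k, rfl⟩
    exact ⟨g * k, by group⟩
  · rw [mul_inv_rev, H.inv hc, H.inv hc', ← e', ← e]; group
  · rintro _ ⟨g, rfl⟩ _ ⟨k, rfl⟩
    exact ⟨k * g⁻¹, by group⟩

theorem PT.four (H : PT p D) : Four D := four_aux p _ G rfl D H

end Cfsg.Agent.PTr
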