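import Cfsg.Agent.PTr.E
import Cfsg.Agent.S0205
import Cfsg.Agent.S0215

/-! Rank three classes of involutions. -/

set_option autoImplicit false

namespace Cfsg.Agent.PTr

open Subgroup

variable {G : Type*} [Group G] [Finite G] {D : Set G}

theorem no2 (hsol : ∀ N : Subgroup G, N.Normal → Group.IsSolvable ↥N → N = ⊥) (N : Subgroup G)
    (hN : N.Normal) (h : IsPGroup 2 N) : N = ⊥ := by
  haveI : Fact (Nat.Prime 2) := ⟨Nat.prime_two⟩
  haveI := h.isNilpotent
  exact hsol N hN inferInstance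

theorem PT.rank3 {p : ℕ} (H : PT p D)
    (hsol : ∀ N : Subgroup G, N.Normal → Group.IsSolvable ↥N → N = ⊥) (hgen : closure D = ⊤)
    (cls : ∀ d ∈ D, ∀ e ∈ D, ∃ g : G, g * d * g⁻¹ = e)
    (r3 : ∀ x ∈ D, ∀ w ∈ D, ∀ x' ∈ D, ∀ w' ∈ D, w ≠ x → w' ≠ x' → (Commute x w ↔ Commute x' w') →
      ∃ g : G, g * x * g⁻¹ = x' ∧ g * w * g⁻¹ = w')
    {a a' : G} (ha : a ∈ D) (ha' : a' ∈ D) (hne : a ≠ a') (hc : Commute a a') : False := by
  have h4 := H.four
  by_cases eqv : ∀ u ∈ D, ∀ v ∈ D, ∀ w ∈ D, Commute u v → Commute u w → Commute v w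
  · obtain ⟨N, hN, h2, hN'⟩ := H.tau eqv ha ha' hc hne fun y hy => by
      by_cases h : Commute a y
      · rw [(h.mul_left (eqv a ha a' ha' y hy hc h)).eq, mul_inv_cancel_right]
      · have := (comm_cj a).2 (h4 a ha a' ha' y hy hc h fun h' => h (eqv a' ha' a ha y hy hc.symm h'))
        rw [H.inv ha] at this
        convert this using 1
        · calc y = (a * a) * y * (a * a) := by rw [H.sq a ha]; group
            _ = _ := by group
        · rw [mul_inv_rev, H.inv ha, H.inv ha']; group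
    exact hN' (no2 hsol N hN h2)
  push Not at eqv
  obtain ⟨y, hy, z, hz, z', hz', c1, c2, n1⟩ := eqv
  have hyz' : y ≠ z' := fun h => n1 (h ▸ c1.symm)
  have R0 : ∀ u ∈ D, Commute z u → u ≠ z → Commute z' u := fun u hu c hu' => by
    by_contra n2
    have hU : ∀ u ∈ D, Commute z u → ¬ Commute z' u → ∀ v ∈ D, Commute z v → Commute z' v →
        Commute v u := fun u hu c n2 v hv c3 c4 => by
      by_contra n3
      exact H.path h4 hz' hz hu hv n1 n2 n3 c c3 c4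
    obtain ⟨g, g1, g2⟩ := r3 y hy z' hz' z hz u hu hyz'.symm hu' (iff_of_true c2 c)
    set R := {w ∈ D | Commute z w ∧ ¬ Commute z' w ∧ w ≠ z}
    have e1 : (insert z R).ncard ≤ {w ∈ D | Commute y w ∧ ¬ Commute z' w}.ncard := by
      refine Set.ncard_le_ncard ?_
      rintro w (rfl | ⟨m, k1, k2, -⟩)
      · exact ⟨hz, c1, fun h => n1 h.symm⟩
      · exact ⟨m, hU w m k1 k2 y hy c1.symm c2.symm, k2⟩
    have e2 : {w ∈ D | Commute y w ∧ ¬ Commute z' w}.ncard ≤ R.ncard := by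
      refine Set.ncard_le_ncard_of_injOn (fun w => g * w * g⁻¹) ?_ fun w _ w' _ h => by simpa using h
      rintro w ⟨m, k1, k2⟩
      have k3 : Commute z (g * w * g⁻¹) := g1 ▸ (comm_cj g).2 k1
      have k4 : ¬ Commute u (g * w * g⁻¹) := g2 ▸ fun h => k2 ((comm_cj g).1 h)
      exact ⟨H.cj g w m, k3, fun h => k4 (hU u hu c n2 _ (H.cj g w m) k3 h).symm,
        fun h => k4 (h ▸ c.symm)⟩
    rw [Set.ncard_insert_of_notMem (fun h => h.2.2.2 rfl)] at e1
    omega
  have R1 : ∀ v ∈ D, ∀ w ∈ D, ¬ Commute v w → ∀ u ∈ D, Commute v u → u ≠ v → Commute w u :=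
    fun v hv w hw n u hu c hu' => by
    obtain ⟨g, rfl, rfl⟩ := r3 z hz z' hz' v hv w hw (fun h => n1 (h ▸ Commute.refl _))
      (fun h => n (h ▸ Commute.refl _)) (iff_of_false n1 n)
    obtain ⟨u, rfl⟩ : ∃ u', u = g * u' * g⁻¹ := ⟨g⁻¹ * u * g, by group⟩
    have hu2 : u ∈ D := by simpa [mul_assoc] using H.cj g⁻¹ _ hu
    exact (comm_cj g).2 (R0 u hu2 ((comm_cj g).1 c) fun h => hu' (h ▸ rfl))
  have key : ∀ g : G, ∀ v ∈ D, g * v * g⁻¹ = v ∨ ¬ Commute v (g * v * g⁻¹) := fun g => by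
    have hg : g ∈ closure D := hgen ▸ mem_top g
    induction hg using closure_induction with
    | mem d hd =>
      intro v hv
      rw [H.inv hd]
      by_cases h : Commute d v
      · exact Or.inl ((H.comm_iff hd).2 h)
      · exact Or.inr (H.nc_cj hd hv h)
    | one => simp
    | mul g k _ _ hg hk =>
      intro v hv
      rw [show g * k * v * (g * k)⁻¹ = g * (k * v * k⁻¹) * g⁻¹ by group]
      rcases hk v hv with h | h
      · rw [h]; exact hg v hv
      · rcases hg _ (H.cj k v hv) with h' | h'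
        · rw [h']; exact Or.inr h
        · by_contra hcon
          push Not at hcon
          exact h' (R1 v hv _ (H.cj k v hv) h _ (H.cj g _ (H.cj k v hv)) hcon.2 hcon.1)
    | inv g _ hg =>
      intro v hv
      have := hg _ (H.cj g⁻¹ v hv)
      rw [show g * (g⁻¹ * v * g⁻¹⁻¹) * g⁻¹ = v by group] at this
      exact this.imp Eq.symm fun h h' => h h'.symm
  obtain ⟨g, rfl⟩ := cls a ha a' ha'
  exact (key g a ha).elim (fun h => hne h.symm) fun h => h hc

theorem exists_odd (hsol : ∀ N : Subgroup G, N.Normal → Group.IsSolvable ↥N → N = ⊥) {x : G}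
    (hx : orderOf x = 2) : ∃ p : ℕ, p.Prime ∧ p ≠ 2 ∧ ∃ g : G, ¬ Commute x (g * x * g⁻¹) ∧
      (x * (g * x * g⁻¹)) ^ p = 1 := by
  have x1 : x ≠ 1 := fun h => by simp [h] at hx
  have xx : x * x = 1 := by rw [← pow_two, ← hx]; exact pow_orderOf_eq_one x
  have xi : x⁻¹ = x := inv_eq_of_mul_eq_one_right xx
  obtain ⟨h, h1, ho, hh⟩ := S0200.result x hx fun N hN h2 hm =>
    x1 (by simpa [no2 hsol N hN h2] using hm)
  obtain ⟨p, pp, hp⟩ := Nat.exists_prime_and_dvd (fun h' => h1 (orderOf_eq_one_iff.1 h'))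
  have p2 : p ≠ 2 := by
    rintro rfl
    exact (Nat.not_even_iff_odd.2 ho) (even_iff_two_dvd.2 hp)
  set k := h ^ (orderOf h / p)
  have hk : orderOf k = p := orderOf_pow_orderOf_div (orderOf_pos h).ne' hp
  have hkp : k ^ p = 1 := hk ▸ pow_orderOf_eq_one k
  have e : x * k * x⁻¹ = k⁻¹ := by rw [← conj_pow, hh, inv_pow]
  have e2 : x * (k⁻¹ * x * k⁻¹⁻¹) = k * k := by
    calc x * (k⁻¹ * x * k⁻¹⁻¹) = (x * k * x⁻¹)⁻¹ * (x * x) * k := by group
      _ = _ := by rw [e, xx]; group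
  have kp : (k * k) ^ p = 1 := by rw [← pow_two, ← pow_mul, mul_comm, pow_mul, hkp, one_pow]
  refine ⟨p, pp, p2, k⁻¹, fun hc => ?_, by rw [e2, kp]⟩
  have h3 := sq_of_comm xx (by
    calc k⁻¹ * x * k⁻¹⁻¹ * (k⁻¹ * x * k⁻¹⁻¹) = k⁻¹ * (x * x) * k := by group
      _ = 1 := by rw [xx]; group) hc
  rw [e2] at h3
  have h5 := one_of_sq (pp.odd_of_ne_two p2) hkp (one_of_sq (pp.odd_of_ne_two p2) kp h3)
  rw [h5, orderOf_one] at hk
  exact pp.one_lt.ne hk

theorem exists_comm (hsol : ∀ N : Subgroup G, N.Normal → Group.IsSolvable ↥N → N = ⊥) {x : G}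
    (hx : orderOf x = 2) : ∃ g : G, Commute x (g * x * g⁻¹) ∧ g * x * g⁻¹ ≠ x := by
  by_contra hcon
  push Not at hcon
  obtain ⟨p, -, -, g, hg, -⟩ := exists_odd hsol hx
  haveI : Fact (Nat.Prime 2) := ⟨Nat.prime_two⟩
  have h1 := Blk.zstar ⟨hx, hcon⟩ g
  rw [hsol (pPrimeCore 2 G) (by open PLoc in infer_instance)
    (S0205.result (Nat.coprime_two_right.mp PLoc.pPrimeCore_coprime)), mem_bot, mul_inv_eq_one,
    mul_inv_eq_iff_eq_mul] at h1
  exact hg (by rw [← h1, mul_inv_cancel_right])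

end Cfsg.Agent.PTr
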